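import Groth.Agent.S1005
import Groth.Agent.S1049
import Groth.Agent.S6704
import Groth.Agent.H15Site.FlatAdjD
import Groth.Agent.H16Derived.GTheory.Closed
import Groth.Agent.H02CA.CohAuto.Main

/-!
# Exact functors on perfect objects agree on all objects once they agree on coherent modules
-/

set_option autoImplicit false
set_option linter.style.haveILetI false
set_option backward.isDefEq.respectTransparency false
set_option maxHeartbeats 1000000

universe u w' u'

open CategoryTheory CategoryTheory.Limits AlgebraicGeometry Opposite Pretriangulated ZeroObject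

attribute [local instance] HasDerivedCategory.standard

noncomputable section

namespace Groth.Agent.H02CA.Sibling

open Groth.Agent.H16Derived DerivedCategory.TStructure Groth.Agent.H17.CohInd

variable {X : Scheme.{u}} [IsNoetherian X] [(SGA6.perfP X).IsTriangulated]

/-- Two exact functors on perfect objects agreeing on coherent modules agree on objects, provided one of them
is fully faithful. -/
theorem nonempty_iso (hreg : Models.IsRegularScheme X)
    (hp : ∀ M : X.Modules, Coh.IsCoh M → DCoh.IsPerfect (DCoh.inD X M))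
    {D : Type u'} [Category.{w'} D] [Preadditive D] [HasZeroObject D] [HasShift D ℤ]
    [∀ n : ℤ, (shiftFunctor D n).Additive] [Pretriangulated D] [IsTriangulated D]
    (A B : (SGA6.perfP X).FullSubcategory ⥤ D) [A.Full] [A.CommShift ℤ] [A.IsTriangulated]
    [B.CommShift ℤ] [B.IsTriangulated] (e : CohAuto.toP hp ⋙ A ≅ CohAuto.toP hp ⋙ B)
    (L : (SGA6.perfP X).FullSubcategory) : Nonempty (A.obj L ≅ B.obj L) := by
  let P : ObjectProperty X.Modules := fun M => Coh.IsCoh M
  have hP := GTheory.isAbClass_isCoh X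
  haveI : P.ContainsZero := ⟨⟨0, isZero_zero _, hP.zero (isZero_zero _)⟩⟩
  haveI : P.IsClosedUnderIsomorphisms := ⟨fun i h => hP.iso i h⟩
  haveI : P.IsClosedUnderKernels := ⟨by
    rintro _ ⟨f, c, hc, h₁, h₂⟩
    exact hP.iso (hc.conePointUniqueUpToIso (kernelIsKernel f)).symm (hP.kernel f h₁ h₂)⟩
  haveI : P.IsClosedUnderCokernels := ⟨by
    rintro _ ⟨f, c, hc, h₁, h₂⟩
    exact hP.iso (hc.coconePointUniqueUpToIso (cokernelIsCokernel f)).symm (hP.cokernel f h₁ h₂)⟩
  haveI : P.IsClosedUnderFiniteProducts := ⟨fun J _ => ObjectProperty.IsClosedUnderLimitsOfShape.mk' (by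
    rintro _ ⟨F, hF⟩
    haveI : IsLocallyNoetherian X := inferInstance
    exact hP.iso (biproduct.isoProduct _ ≪≫ HasLimit.isoOfNatIso (Discrete.natIsoFunctor (F := F)).symm)
      (by
        let e := (Finite.equivFin J).symm
        refine hP.iso (biproduct.whiskerEquiv e fun i => Iso.refl (F.obj ⟨e i⟩)) ?_
        exact hP.iso (biproduct.isoCoproduct _).symm (H10Coh.isCoh_sigma _ fun i => hF ⟨e i⟩)))⟩
  haveI := P.preservesKernels_ι
  haveI := P.preservesCokernels_ι
  haveI : PreservesFiniteLimits P.ι := Functor.preservesFiniteLimits_of_preservesKernels _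
  haveI : PreservesFiniteColimits P.ι := Functor.preservesFiniteColimits_of_preservesCokernels _
  let J := DerivedCategory.Bounded.ι (C := P.FullSubcategory) ⋙ P.ι.mapDerivedCategory
  have hJ : ∀ M, SGA6.perfP X (J.obj M) := fun M => by
    obtain ⟨⟨a, ha⟩, ⟨b, hb⟩⟩ := M.property
    haveI : M.obj.IsGE a := ha
    haveI : M.obj.IsLE b := hb
    haveI := H15Site.FlatAdjD.isGE_map P.ι M.obj a
    haveI := H15Site.FlatAdjD.isLE_map P.ι M.obj b
    refine S1005.result X hreg (P.ι.mapDerivedCategory.obj M.obj) a b fun i => H10Coh.isCoh_of_iso ?_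
      ((DerivedCategory.homologyFunctor P.FullSubcategory i).obj M.obj).property
    exact ((DerivedCategory.homologyFunctor _ i).mapIso (P.ι.mapDerivedCategory.mapIso
        (DerivedCategory.Q.objObjPreimageIso M.obj).symm ≪≫ P.ι.mapDerivedCategoryFactors.app _) ≪≫
      (DerivedCategory.homologyFunctorFactors _ i).app _ ≪≫
      ((DerivedCategory.Q.objPreimage M.obj).sc i).mapHomologyIso P.ι ≪≫
      P.ι.mapIso ((DerivedCategory.homologyFunctorFactors _ i).app _).symm ≪≫
      P.ι.mapIso ((DerivedCategory.homologyFunctor _ i).mapIso (DerivedCategory.Q.objObjPreimageIso M.obj))).symm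
  let Eb := ObjectProperty.lift (SGA6.perfP X) J hJ
  let s : DEquiv.singleB P.FullSubcategory ⋙ Eb ≅ CohAuto.toP hp :=
    ((ObjectProperty.fullyFaithfulι _).whiskeringRight _).preimageIso
      (P.ι.mapDerivedCategorySingleFunctor 0)
  have h2 : ∀ (M N : P.FullSubcategory) (q : ℤ), q < 0 →
      ∀ f : (Eb ⋙ A).obj ((DEquiv.singleB _).obj M) ⟶
        (shiftFunctor D q).obj ((Eb ⋙ A).obj ((DEquiv.singleB _).obj N)), f = 0 := by
    intro M N q hq f
    let a := Eb.obj ((DEquiv.singleB _).obj M)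
    let b := Eb.obj ((DEquiv.singleB _).obj N)
    have h0 : ∀ g : a ⟶ b⟦q⟧, g = 0 := fun g => ObjectProperty.hom_ext _ (by
      let ea : a.obj ≅ DCoh.inD X M.obj := (P.ι.mapDerivedCategorySingleFunctor 0).app M
      let eb : b.obj ≅ DCoh.inD X N.obj := (P.ι.mapDerivedCategorySingleFunctor 0).app N
      let c : (b⟦q⟧).obj ≅ (DCoh.inD X N.obj)⟦q⟧ :=
        ((SGA6.perfP X).ι.commShiftIso q).app b ≪≫ (shiftFunctor _ q).mapIso eb
      have hz : ea.inv ≫ g.hom ≫ c.hom = 0 := by
        haveI : t.IsLE (DCoh.inD X M.obj) 0 := inferInstanceAs (DerivedCategory.IsLE _ _)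
        haveI : t.IsGE (DCoh.inD X N.obj) 0 := inferInstanceAs (DerivedCategory.IsGE _ _)
        haveI : t.IsGE ((DCoh.inD X N.obj)⟦q⟧) (-q) := t.isGE_shift _ 0 q (-q) (by omega)
        exact t.zero _ 0 (-q) (by omega)
      rw [Preadditive.IsIso.comp_left_eq_zero, Preadditive.IsIso.comp_right_eq_zero] at hz
      exact hz)
    have h : f ≫ (A.commShiftIso q).inv.app b = 0 := by
      rw [← A.map_preimage (f ≫ (A.commShiftIso q).inv.app b), h0 (A.preimage _), Functor.map_zero]
    exact (cancel_mono ((A.commShiftIso q).inv.app b)).1 (h.trans zero_comp.symm)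
  have hmem : Eb.essImage L := by
    obtain ⟨a, b, ha, hb⟩ := FMKWit.exists_bounds_of_isPerfect L.property
    obtain ⟨M, hMa, hMb, ⟨i⟩⟩ := (S1049.result X).2 L.obj a b ha hb (FMKWit.isCohD_of_isPerfect L.property)
    exact ⟨⟨M, ⟨⟨a, hMa⟩, ⟨b, hMb⟩⟩⟩, ⟨(SGA6.perfP X).fullyFaithfulι.preimageIso i⟩⟩
  obtain ⟨K, ⟨i⟩⟩ := hmem
  obtain ⟨j⟩ := S6704.result (Eb ⋙ A) (Eb ⋙ B)
    ⟨Functor.isoWhiskerRight s A ≪≫ e ≪≫ Functor.isoWhiskerRight s.symm B⟩ h2 K
  exact ⟨A.mapIso i.symm ≪≫ j ≪≫ B.mapIso i⟩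

end Groth.Agent.H02CA.Sibling
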