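import Groth.Agent.H02CA.Sibling.TwistD
import Groth.Agent.H02CA.Sibling.CohBounded
import Groth.Agent.H11Ample.Tensor

/-!
# A fully faithful functor agreeing with a Fourier–Mukai functor on the points is a sibling of one
-/

set_option autoImplicit false
set_option linter.style.haveILetI false
set_option backward.isDefEq.respectTransparency false
set_option maxHeartbeats 2000000

universe u

open CategoryTheory CategoryTheory.Limits CategoryTheory.Functor AlgebraicGeometry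

attribute [local instance] HasDerivedCategory.standard

noncomputable section

namespace Groth.Agent.H02CA.Sibling

open Groth.Agent.H16Derived Groth.Agent.H16Derived.KFlat Groth.Agent.H16Derived.KFlat.Stalk Groth.Agent.H25FM
  Groth.Agent.H17.CohInd Groth.Agent.H02CA.FMConv

/-- The Fourier–Mukai functor preceded by a twist is a Fourier–Mukai functor. -/
theorem exists_kernel {S X Y : Scheme.{u}} (a : X ⟶ S) (b : Y ⟶ S) (σ : X ⟶ X) [IsIso σ] (hσ : σ ≫ a = a)
    {L : X.Modules} (hL : PicF.IsInvertible L) (hLp : DCoh.IsPerfect (DCoh.inD X L))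
    [DCoh.HasLpull (pullback.fst a b)] [DCoh.HasRpush (pullback.snd a b)]
    [∀ K : CochainComplex (pullback a b : Scheme.{u}).Modules ℤ, DCoh.HasLTensorCx K]
    [PreservesFiniteLimits (Scheme.Modules.pullback σ)]
    [PreservesFiniteLimits (DCoh.tensorRightMod L)] [PreservesFiniteColimits (DCoh.tensorRightMod L)]
    (K₀ : CochainComplex (pullback a b : Scheme.{u}).Modules ℤ) (hK₀ : DCoh.IsPerfect (DCoh.toD _ K₀)) :
    ∃ K : CochainComplex (pullback a b : Scheme.{u}).Modules ℤ, DCoh.IsPerfect (DCoh.toD _ K) ∧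
      Nonempty ((Scheme.Modules.pullback σ).mapDerivedCategory ⋙ (DCoh.tensorRightMod L).mapDerivedCategory ⋙
          DCoh.Lpull (pullback.fst a b) ⋙ DCoh.LTensorCx K₀ ⋙ DCoh.Rpush (pullback.snd a b) ≅
        DCoh.Lpull (pullback.fst a b) ⋙ DCoh.LTensorCx K ⋙ DCoh.Rpush (pullback.snd a b)) := by
  let p := pullback.fst a b
  let q := pullback.snd a b
  let g : pullback a b ⟶ pullback a b :=
    pullback.map a b a b σ (𝟙 Y) (𝟙 S) (by rw [Category.comp_id, hσ]) (by rw [Category.comp_id, Category.id_comp])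
  haveI : IsIso g := pullback.map_isIso ..
  have hgp : g ≫ p = p ≫ σ := pullback.lift_fst _ _ _
  have hgq : g ≫ q = q := (pullback.lift_snd _ _ _).trans (Category.comp_id _)
  haveI := hasLpull σ
  haveI := hasLpull g
  haveI := hasLpull (inv g)
  haveI := hasLpull (𝟙 (pullback a b : Scheme.{u}))
  haveI := hasLpull (p ≫ σ)
  haveI := QCohD.hasRpush g
  obtain ⟨lσ⟩ := nonempty_lpull_mapD σ
  obtain ⟨lL⟩ := nonempty_TFlip_mapD hL
  let ℓ := DerivedCategory.Q.obj (one L)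
  let κ₀ := DCoh.toD _ K₀
  obtain ⟨t₁⟩ := LeadBrown.nonempty_lpull_TFlip p ℓ
  let n := ((Dual.T _).obj ((DCoh.Lpull p).obj ℓ)).obj κ₀
  have hn : DCoh.IsPerfect n := isPerfect_T' (isPerfect_lpull _ (isPerfect_of_iso (inDIso L) hLp)) hK₀
  let κ := (DCoh.Lpull (inv g)).obj n
  let K := DerivedCategory.Q.objPreimage κ
  let eK : DCoh.toD _ K ≅ κ := DerivedCategory.Q.objObjPreimageIso κ
  obtain ⟨c₀⟩ := nonempty_lpull_comp g (inv g) (𝟙 _) (IsIso.hom_inv_id g)
  obtain ⟨i₀⟩ := nonempty_lpull_id (pullback a b)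
  let eg : (DCoh.Lpull g).obj κ ≅ n := (c₀ ≪≫ i₀).app n
  obtain ⟨c₁⟩ := nonempty_lpull_comp p σ (p ≫ σ) rfl
  obtain ⟨c₂⟩ := nonempty_lpull_comp g p (p ≫ σ) hgp
  obtain ⟨t₂⟩ := LeadBrown.nonempty_lpull_TFlip g κ
  obtain ⟨r⟩ := nonempty_rpush_comp g q q hgq
  obtain ⟨u₀⟩ := nonempty_lpull_rpush_iso g
  refine ⟨K, isPerfect_of_iso eK.symm (isPerfect_lpull _ hn), ⟨?_⟩⟩
  exact isoWhiskerRight lσ.symm _ ≪≫
    isoWhiskerLeft (DCoh.Lpull σ) (isoWhiskerRight lL.symm _ ≪≫ (Functor.associator _ _ _).symm ≪≫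
      isoWhiskerRight t₁ _ ≪≫ Functor.associator _ _ _ ≪≫
      isoWhiskerLeft (DCoh.Lpull p) (isoWhiskerLeft _ (isoWhiskerRight (Dual.ltensorCxIsoT K₀).symm _) ≪≫
        (Functor.associator _ _ _).symm ≪≫ isoWhiskerRight (Dual.flipAssoc _ _) _)) ≪≫
    (Functor.associator _ _ _).symm ≪≫ isoWhiskerRight (c₁ ≪≫ c₂.symm) _ ≪≫ Functor.associator _ _ _ ≪≫
    isoWhiskerLeft (DCoh.Lpull p) ((Functor.associator _ _ _).symm ≪≫
      isoWhiskerRight (isoWhiskerLeft (DCoh.Lpull g) ((Dual.T _).flip.mapIso eg.symm) ≪≫ t₂.symm) _ ≪≫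
      Functor.associator _ _ _ ≪≫
      isoWhiskerLeft _ (isoWhiskerLeft (DCoh.Lpull g) r.symm ≪≫ (Functor.associator _ _ _).symm ≪≫
        isoWhiskerRight u₀ _ ≪≫ Functor.leftUnitor _) ≪≫
      isoWhiskerRight ((Dual.T _).flip.mapIso eK.symm ≪≫ Dual.ltensorCxIsoT K) _)

/-- The inverse of an autoequivalence fixing the points is a twist on coherent modules. -/
theorem exists_inverse_twist {k : Type u} [Field k] {X : Scheme.{u}} [X.Over (Spec (.of k))]
    [IsProper (X ↘ Spec (.of k))] (hreg : Models.IsRegularScheme X) [(SGA6.perfP X).IsTriangulated]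
    (H : (SGA6.perfP X).FullSubcategory ⥤ (SGA6.perfP X).FullSubcategory) [H.Additive] [H.Linear k]
    [H.CommShift ℤ] [H.IsTriangulated] [H.IsEquivalence]
    (hH : ∀ (M : X.Modules), Coh.IsCoh M → (CohB1.support M).Finite → (CohB1.support M).Nonempty →
      (∀ x ∈ CohB1.support M, IsClosed ({x} : Set X)) →
      ∀ (hM : DCoh.IsPerfect (DCoh.inD X M)),
        Nonempty ((⟨DCoh.inD X M, hM⟩ : (SGA6.perfP X).FullSubcategory) ≅ H.obj ⟨DCoh.inD X M, hM⟩)) :
    ∃ (I : (SGA6.perfP X).FullSubcategory ⥤ (SGA6.perfP X).FullSubcategory) (_ : I.Additive)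
      (i : I.CommShift ℤ) (_ : letI := i; I.IsTriangulated) (_ : I.Full)
      (hp : ∀ M : X.Modules, Coh.IsCoh M → DCoh.IsPerfect (DCoh.inD X M))
      (σ : X ≅ X) (_ : σ.hom ≫ (X ↘ Spec (.of k)) = X ↘ Spec (.of k))
      (L : X.Modules) (_ : PicF.IsInvertible L),
      Nonempty (CohAuto.toP hp ⋙ I ⋙ (SGA6.perfP X).ι ≅ (ObjectProperty.ι (fun M : X.Modules => Coh.IsCoh M) ⋙
        Scheme.Modules.pullback σ.hom ⋙ DCoh.tensorRightMod L) ⋙ DerivedCategory.singleFunctor X.Modules 0) ∧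
      Nonempty (I ⋙ H ≅ 𝟭 _) := by
  letI : H.asEquivalence.functor.CommShift ℤ := ‹H.CommShift ℤ›
  haveI : H.asEquivalence.functor.IsTriangulated := ‹H.IsTriangulated›
  haveI : H.asEquivalence.functor.Linear k := ‹H.Linear k›
  letI : H.inv.CommShift ℤ := H.asEquivalence.commShiftInverse ℤ
  letI : H.asEquivalence.inverse.CommShift ℤ := H.asEquivalence.commShiftInverse ℤ
  haveI : H.asEquivalence.CommShift ℤ := H.asEquivalence.commShift_of_functor ℤ
  haveI : H.asEquivalence.toAdjunction.CommShift ℤ := inferInstance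
  haveI : H.inv.IsTriangulated := H.asEquivalence.toAdjunction.isTriangulated_rightAdjoint
  haveI : H.inv.Linear k := inferInstanceAs (H.asEquivalence.inverse.Linear k)
  have hfix : CohAuto.FixSky H.inv := fun x hx hp => by
    obtain ⟨e⟩ := CohAuto.fixSky_of (k := k) H hreg hH x hx hp
    exact ⟨H.inv.mapIso e.symm ≪≫ (H.asEquivalence.unitIso.app _).symm⟩
  obtain ⟨σ, hσ, -, L, hL, hp, η⟩ := CohAuto.exists_twist (k := k) H.inv hreg hfix
  exact ⟨H.inv, inferInstance, inferInstance, inferInstance, inferInstance, hp, σ, hσ, L, hL, η,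
    ⟨H.asEquivalence.counitIso⟩⟩

/-- The main statement. -/
theorem exists_sibling {k : Type u} [Field k] {X Y : Scheme.{u}} [X.Over (Spec (.of k))] [Y.Over (Spec (.of k))]
    [IsProper (X ↘ Spec (.of k))] [IsProper (Y ↘ Spec (.of k))] (hreg : Models.IsRegularScheme X)
    [(SGA6.perfP X).IsTriangulated] [(SGA6.perfP Y).IsTriangulated]
    (F : (SGA6.perfP X).FullSubcategory ⥤ (SGA6.perfP Y).FullSubcategory) [F.Additive] [F.Linear k]
    [F.CommShift ℤ] [F.IsTriangulated] [F.Full] [F.Faithful]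
    (G : (SGA6.perfP X).FullSubcategory ⥤ (SGA6.perfP Y).FullSubcategory) [G.Additive] [G.Linear k]
    [G.CommShift ℤ] [G.IsTriangulated]
    [DCoh.HasLpull (pullback.fst (X ↘ Spec (.of k)) (Y ↘ Spec (.of k)))]
    [DCoh.HasRpush (pullback.snd (X ↘ Spec (.of k)) (Y ↘ Spec (.of k)))]
    [∀ K : CochainComplex (pullback (X ↘ Spec (.of k)) (Y ↘ Spec (.of k)) : Scheme.{u}).Modules ℤ,
      DCoh.HasLTensorCx K]
    (h1 : ∀ (M : X.Modules), Coh.IsCoh M → (CohB1.support M).Finite → (CohB1.support M).Nonempty →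
        (∀ x ∈ CohB1.support M, IsClosed ({x} : Set X)) →
        ∀ (hM : DCoh.IsPerfect (DCoh.inD X M)),
          Nonempty (F.obj ⟨DCoh.inD X M, hM⟩ ≅ G.obj ⟨DCoh.inD X M, hM⟩))
    (K₀ : CochainComplex (pullback (X ↘ Spec (.of k)) (Y ↘ Spec (.of k)) : Scheme.{u}).Modules ℤ)
    (hK₀ : DCoh.IsPerfect (DCoh.toD _ K₀))
    (h3 : G ⋙ (SGA6.perfP Y).ι ≅ (SGA6.perfP X).ι ⋙ (DCoh.Lpull (pullback.fst (X ↘ Spec (.of k)) (Y ↘ Spec (.of k))) ⋙
      DCoh.LTensorCx K₀ ⋙ DCoh.Rpush (pullback.snd (X ↘ Spec (.of k)) (Y ↘ Spec (.of k))))) :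
    ∃ (K : CochainComplex (pullback (X ↘ Spec (.of k)) (Y ↘ Spec (.of k)) : Scheme.{u}).Modules ℤ)
      (hp : ∀ M : X.Modules, Coh.IsCoh M → DCoh.IsPerfect (DCoh.inD X M)), DCoh.IsPerfect (DCoh.toD _ K) ∧
      Nonempty (CohAuto.toP hp ⋙ F ⋙ (SGA6.perfP Y).ι ≅
        ObjectProperty.ι (fun M : X.Modules => Coh.IsCoh M) ⋙ DerivedCategory.singleFunctor X.Modules 0 ⋙
          DCoh.Lpull (pullback.fst (X ↘ Spec (.of k)) (Y ↘ Spec (.of k))) ⋙ DCoh.LTensorCx K ⋙
            DCoh.Rpush (pullback.snd (X ↘ Spec (.of k)) (Y ↘ Spec (.of k)))) ∧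
      ∀ L : (SGA6.perfP X).FullSubcategory, Nonempty ((F.obj L).obj ≅
        (DCoh.Lpull (pullback.fst (X ↘ Spec (.of k)) (Y ↘ Spec (.of k))) ⋙ DCoh.LTensorCx K ⋙
          DCoh.Rpush (pullback.snd (X ↘ Spec (.of k)) (Y ↘ Spec (.of k)))).obj L.obj) := by
  haveI : IsLocallyNoetherian X := LocallyOfFiniteType.isLocallyNoetherian (X ↘ Spec (.of k))
  haveI : CompactSpace X := QuasiCompact.compactSpace_of_compactSpace (X ↘ Spec (.of k))
  haveI : IsNoetherian X := { }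
  -- the comparison autoequivalence
  haveI : F.IsLeftAdjoint := (S6748.result k X Y hreg F).1
  let adj := Adjunction.ofIsLeftAdjoint F
  let R := F.rightAdjoint
  haveI : R.Additive := adj.right_adjoint_additive
  letI : R.CommShift ℤ := adj.rightAdjointCommShift ℤ
  haveI : adj.CommShift ℤ := adj.commShift_of_leftAdjoint ℤ
  haveI : R.IsTriangulated := adj.isTriangulated_rightAdjoint
  haveI : ∀ M, IsIso (adj.unit.app M) := fun M => inferInstance
  haveI : ∀ M, IsIso (adj.counit.app (G.obj M)) := fun M =>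
    adj.isIso_counit_app_iff_mem_essImage.2 (SkyExt.mem_essImage_of_agree (k := k) F G hreg h1 M)
  let H := G ⋙ R
  haveI : H.Additive := inferInstance
  let ε₀ : H ⋙ F ≅ G := NatIso.ofComponents (fun M => asIso (adj.counit.app (G.obj M)))
    (fun {M N} φ => adj.counit.naturality (G.map φ))
  haveI : (H ⋙ F).Linear k := Functor.linear_of_iso k ε₀.symm
  haveI : H.Linear k := ⟨fun {M N} f r => F.map_injective ((Functor.map_smul (H ⋙ F) r f).trans (F.map_smul r (H.map f)).symm)⟩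
  have hH : ∀ (M : X.Modules), Coh.IsCoh M → (CohB1.support M).Finite → (CohB1.support M).Nonempty →
      (∀ x ∈ CohB1.support M, IsClosed ({x} : Set X)) →
      ∀ (hM : DCoh.IsPerfect (DCoh.inD X M)),
        Nonempty ((⟨DCoh.inD X M, hM⟩ : (SGA6.perfP X).FullSubcategory) ≅ H.obj ⟨DCoh.inD X M, hM⟩) :=
    fun M hc hf hn hcl hM => ⟨asIso (adj.unit.app _) ≪≫ R.mapIso (h1 M hc hf hn hcl hM).some⟩
  haveI : H.IsEquivalence := CohAuto.isEquivalence_of_fix (k := k) H hreg hH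
  obtain ⟨I, iA, iC, iT, iF, hp, σ, hσ, L, hL, ⟨η⟩, ⟨c⟩⟩ := exists_inverse_twist (k := k) hreg H hH
  haveI := iF
  letI := iC
  haveI := iT
  let φ : F ≅ I ⋙ G := (Functor.leftUnitor F).symm ≪≫
    isoWhiskerRight c.symm F ≪≫ Functor.associator _ _ _ ≪≫ isoWhiskerLeft I ε₀
  -- the twist on derived categories
  haveI := preservesFiniteLimits_pullback_of_flat σ.hom
  obtain ⟨hl, hr⟩ := exact_tensorRightMod hL
  haveI := hl
  haveI := hr
  let T := (Scheme.Modules.pullback σ.hom).mapDerivedCategory ⋙ (DCoh.tensorRightMod L).mapDerivedCategory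
  haveI := hasLpull σ.hom
  obtain ⟨lσ⟩ := nonempty_lpull_mapD σ.hom
  obtain ⟨lL⟩ := nonempty_TFlip_mapD hL
  have hT : ∀ A : (SGA6.perfP X).FullSubcategory, SGA6.perfP X (((SGA6.perfP X).ι ⋙ T).obj A) := fun A =>
    isPerfect_of_iso (lL.app _) (isPerfect_T' (isPerfect_of_iso (lσ.app _) (isPerfect_lpull _ A.property))
      (isPerfect_of_iso (inDIso L) (hp L (H11Ample.isCoh_of_isInvertible hL))))
  let Tp := ObjectProperty.lift (SGA6.perfP X) ((SGA6.perfP X).ι ⋙ T) hT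
  let ξ : (Scheme.Modules.pullback σ.hom ⋙ DCoh.tensorRightMod L) ⋙ DerivedCategory.singleFunctor X.Modules 0 ≅
      DerivedCategory.singleFunctor X.Modules 0 ⋙ T :=
    Functor.associator _ _ _ ≪≫
      isoWhiskerLeft _ ((DCoh.tensorRightMod L).mapDerivedCategorySingleFunctor 0).symm ≪≫
      (Functor.associator _ _ _).symm ≪≫
      isoWhiskerRight ((Scheme.Modules.pullback σ.hom).mapDerivedCategorySingleFunctor 0).symm _ ≪≫
      Functor.associator _ _ _
  let η' : CohAuto.toP hp ⋙ I ⋙ (SGA6.perfP X).ι ≅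
      ObjectProperty.ι (fun M : X.Modules => Coh.IsCoh M) ⋙ DerivedCategory.singleFunctor X.Modules 0 ⋙ T :=
    η ≪≫ Functor.associator _ _ _ ≪≫ isoWhiskerLeft _ ξ
  obtain ⟨K, hK, ⟨ζ⟩⟩ := exists_kernel (X ↘ Spec (.of k)) (Y ↘ Spec (.of k)) σ.hom hσ hL
    (hp L (H11Ample.isCoh_of_isInvertible hL)) K₀ hK₀
  refine ⟨K, hp, hK, ⟨?_⟩, fun A => ?_⟩
  · exact isoWhiskerLeft (CohAuto.toP hp) (isoWhiskerRight φ _ ≪≫ Functor.associator _ _ _ ≪≫
        isoWhiskerLeft I h3) ≪≫ isoWhiskerLeft (CohAuto.toP hp) (Functor.associator _ _ _).symm ≪≫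
      (Functor.associator _ _ _).symm ≪≫ isoWhiskerRight η' _ ≪≫ Functor.associator _ _ _ ≪≫
      isoWhiskerLeft _ (Functor.associator _ _ _) ≪≫
      isoWhiskerLeft (ObjectProperty.ι (fun M : X.Modules => Coh.IsCoh M))
        (isoWhiskerLeft (DerivedCategory.singleFunctor X.Modules 0) ζ)
  · obtain ⟨i⟩ := nonempty_iso hreg hp I Tp
      (((ObjectProperty.fullyFaithfulι _).whiskeringRight _).preimageIso η') A
    exact ⟨(SGA6.perfP Y).ι.mapIso (φ.app A ≪≫ G.mapIso i) ≪≫ h3.app (Tp.obj A) ≪≫ ζ.app A.obj⟩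

end Groth.Agent.H02CA.Sibling
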