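import Groth.Agent.H02CA.FMConv.Adj
import Groth.Agent.H25FM.Single
import Groth.Agent.H29RR.Invert
import Groth.Agent.H16Derived.KFlat.RestrictD

/-!
# Pullback along a flat morphism and twists by line bundles, as functors on derived categories
-/

set_option autoImplicit false
set_option linter.style.haveILetI false
set_option backward.isDefEq.respectTransparency false
set_option maxHeartbeats 1000000

universe u

open CategoryTheory CategoryTheory.Limits CategoryTheory.Functor AlgebraicGeometry

attribute [local instance] HasDerivedCategory.standard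

noncomputable section

namespace Groth.Agent.H02CA.Sibling

open Groth.Agent.H16Derived Groth.Agent.H16Derived.KFlat Groth.Agent.H16Derived.KFlat.Stalk Groth.Agent.H25FM

variable {X Y : Scheme.{u}}

/-- Twisting by an invertible module is exact. -/
theorem exact_tensorRightMod {L : X.Modules} (hL : PicF.IsInvertible L) :
    PreservesFiniteLimits (DCoh.tensorRightMod L) ∧ PreservesFiniteColimits (DCoh.tensorRightMod L) := by
  obtain ⟨N, hN, ⟨i⟩⟩ := H29RR.exists_inverse_comm hL
  let a : DCoh.tensorRightMod L ≅ H29RR.twist L := tensorRightModIso L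
  haveI : (H29RR.twist L).IsEquivalence :=
    (CategoryTheory.Equivalence.mk (H29RR.twist L) (H29RR.twist N) (H29RR.twistInv i).symm
      (H29RR.twistInv (H10Coh.Tw.commIso N L ≪≫ i))).isEquivalence_functor
  exact ⟨preservesFiniteLimits_of_natIso a.symm, preservesFiniteColimits_of_natIso a.symm⟩

/-- `Lf^*` is termwise for a flat morphism. -/
theorem nonempty_lpull_mapD (f : X ⟶ Y) [Flat f] [DCoh.HasLpull f]
    [PreservesFiniteLimits (Scheme.Modules.pullback f)] :
    Nonempty (DCoh.Lpull f ≅ (Scheme.Modules.pullback f).mapDerivedCategory) := by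
  haveI := LeftDerTri.isLocalization (pullAdapted f)
  let e : ((kflat Y).ι ⋙ DerivedCategory.Q) ⋙ DCoh.Lpull f ≅
      ((kflat Y).ι ⋙ DerivedCategory.Q) ⋙ (Scheme.Modules.pullback f).mapDerivedCategory :=
    lpullIso f ≪≫ isoWhiskerLeft (kflat Y).ι (Scheme.Modules.pullback f).mapDerivedCategoryFactors.symm
  exact ⟨Localization.liftNatIso ((kflat Y).ι ⋙ DerivedCategory.Q) (LeftDerTri.qis _) _ _ _ _ e⟩

/-- `- ⊗^L L[0]` is termwise for an invertible `L`. -/
theorem nonempty_TFlip_mapD {L : X.Modules} (hL : PicF.IsInvertible L)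
    [PreservesFiniteLimits (DCoh.tensorRightMod L)] [PreservesFiniteColimits (DCoh.tensorRightMod L)] :
    Nonempty ((Dual.T X).flip.obj (DerivedCategory.Q.obj (one L)) ≅ (DCoh.tensorRightMod L).mapDerivedCategory) := by
  let E := one L
  let s : (((DCoh.tensorBi (X := X)).flip).obj (E.X 0)).mapHomologicalComplex (ComplexShape.up ℤ) ≅
      tot (DCoh.tensorBi (X := X)).flip E :=
    NatIso.ofComponents (fun W => singleLeftIso (DCoh.tensorBi (X := X)).flip E W (one_isZero L))
      (fun {W W'} f => by
        refine HomologicalComplex.hom_ext _ _ fun n => ?_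
        exact (ι_tot_map (F := (DCoh.tensorBi (X := X)).flip) E f 0 n n (zero_add n)).symm)
  let t : (DCoh.tensorRightMod L).mapHomologicalComplex (ComplexShape.up ℤ) ≅ tot (DCoh.tensorBi (X := X)).flip E :=
    NatIso.mapHomologicalComplex (tensorRightModIso L ≪≫ (DCoh.tensorBi (X := X)).flip.mapIso
      (HomologicalComplex.singleObjXSelf (ComplexShape.up ℤ) 0 L).symm) (ComplexShape.up ℤ) ≪≫ s
  exact nonempty_of_Q _ _ (Dual.TFlipIso E (kflat_one (H25FM.isFlat_invertible hL)) ≪≫ isoWhiskerRight t.symm _ ≪≫
    (DCoh.tensorRightMod L).mapDerivedCategoryFactors.symm)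

end Groth.Agent.H02CA.Sibling
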